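import Groth.Agent.Curves.K319.CD

/-!
# Nonspecial very ample classes on a curve: the numerical part

`IsNsVa C a`: `a` is nonspecial and separates points and tangent vectors. Such a class has degree at least `g + 2`, and in
degree `g + 2` one has `h a = 3`. If there is a class `M` of degree `g - 5` with `h (M + x + y) = 0` for all points `x`, `y`,
there is such a class in every degree `≥ g + 3`.
-/

set_option autoImplicit false

namespace K657.NsAbs

open K319

variable {A : Type*} [AddCommGroup A] {pts : Type*} (C : CD A pts)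

/-- nonspecial and very ample -/
structure IsNsVa (a : A) : Prop where
  ns : C.h (C.K - a) = 0
  va : ∀ x y, C.h (a - C.p x - C.p y) + 2 = C.h a

theorem h_eq {a : A} (h : C.h (C.K - a) = 0) : (C.h a : ℤ) = C.deg a + 1 - C.g := by
  have := C.rr a
  rw [h] at this
  push_cast at this
  linarith

theorem three_le {a : A} (hg : 2 ≤ C.g) (h : IsNsVa C a) : 3 ≤ C.h a := by
  have h1 := h_eq C h.ns
  obtain ⟨x0, -⟩ := C.exists_good 0 0 (by rw [C.h_zero]; omega) (by rw [C.h_zero]; omega)
  have h2 := h.va x0 x0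
  by_contra hcon
  have h3 : C.h a = 2 := by omega
  rw [h3] at h1
  push_cast at h1
  obtain ⟨x, hx⟩ := C.exists_pt a (by omega) (by omega)
  obtain ⟨y, hy⟩ := C.exists_pt (a - C.p x) hx (by rw [C.deg_sub_p]; omega)
  have h4 := h.va x y
  omega

theorem le_deg {a : A} (hg : 2 ≤ C.g) (h : IsNsVa C a) : (C.g : ℤ) + 2 ≤ C.deg a := by
  have h1 := h_eq C h.ns
  have h2 := three_le C hg h
  omega

theorem h_mono_sub (a : A) (m : Multiset pts) : C.h (a - C.cl m) ≤ C.h a := by
  have := C.mono (a - C.cl m) (C.cl m) (C.h_cl_ne_zero m)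
  rwa [sub_add_cancel] at this

/-- From a class of degree `g - 5` to nonspecial very ample classes of all degrees `≥ g + 3`. -/
theorem exists_isNsVa {M : A} (hM : C.deg M = C.g - 5) (hM0 : ∀ x y, C.h (M + C.p x + C.p y) = 0) (d : ℤ)
    (hd : (C.g : ℤ) + 3 ≤ d) : ∃ a, C.deg a = d ∧ IsNsVa C a := by
  obtain ⟨x0, -⟩ := C.exists_good 0 0 (by rw [C.h_zero]; omega) (by rw [C.h_zero]; omega)
  let m : Multiset pts := Multiset.replicate (d - (C.g + 3)).toNat x0
  have hm : C.deg (C.cl m) = d - (C.g + 3) := by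
    rw [C.deg_cl, Multiset.card_replicate, Int.toNat_of_nonneg (by omega)]
  have hKM : ∀ b : A, C.h (C.K - (C.K - M + C.cl m - b)) = C.h (M + b - C.cl m) := by
    intro b
    congr 1
    abel
  have hz : ∀ x y, C.h (C.K - (C.K - M + C.cl m - C.p x - C.p y)) = 0 := by
    intro x y
    have h1 : C.K - (C.K - M + C.cl m - C.p x - C.p y) = M + C.p x + C.p y - C.cl m := by abel
    rw [h1]
    have := h_mono_sub C (M + C.p x + C.p y) m
    have := hM0 x y
    omega
  have hz0 : C.h (C.K - (C.K - M + C.cl m)) = 0 := by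
    have h2 := hz x0 x0
    have h3 : C.K - (C.K - M + C.cl m - C.p x0 - C.p x0) = C.K - (C.K - M + C.cl m) + C.p x0 + C.p x0 := by abel
    rw [h3] at h2
    have h4 := C.h_le_add_p (C.K - (C.K - M + C.cl m)) x0
    have h5 := C.h_le_add_p (C.K - (C.K - M + C.cl m) + C.p x0) x0
    omega
  refine ⟨C.K - M + C.cl m, ?_, hz0, ?_⟩
  · rw [map_add, map_sub, C.deg_K, hM, hm]
    ring
  · intro x y
    have h1 := h_eq C hz0
    have h2 := h_eq C (hz x y)
    rw [C.deg_sub_p, C.deg_sub_p] at h2
    omega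

end K657.NsAbs
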