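import Groth.Agent.Curves.K657.PowMap
import Groth.Agent.Curves.K657.NsAbs
import Groth.Agent.Curves.K319.PicCD
import Groth.Agent.JacVar.K533.JacSep
import Groth.Agent.Sga7.H732.Abel
import Groth.Agent.Fdesc.GeomAlgClosed
import Groth.Agent.Fdesc.BaseField
import Groth.Agent.S3239

/-!
# A class `M` of degree `g - 5` with `h⁰(M + x + y) = 0` for all points `x`, `y`
-/

set_option autoImplicit false
universe u
open CategoryTheory CategoryTheory.Limits AlgebraicGeometry MonoidalCategory CartesianMonoidalCategory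
open scoped MonObj

namespace K657.NsJac

open Groth.Agent Groth.Agent.Grpsch.PicGrp Groth.Agent.Fga.RigGrp Groth.Agent.Sga7.H732.Hedge
open Groth.Agent.Sga7.H732 K532.CurvePic K532.CurvePts K532.Dict Groth.Agent.Fga.JacSum
open K532.KPts K319.PicCD K319.Setup

variable {k : Type u} [Field k] [IsAlgClosed k]

/-- The dimension of the Jacobian is the genus. -/
theorem dim_eq {C : Scheme.{u}} [C.Over (Spec (CommRingCat.of k))]
    [IsProper (C ↘ Spec (CommRingCat.of k))] [Smooth (C ↘ Spec (CommRingCat.of k))] [IsIntegral C]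
    (hdim : topologicalKrullDim C = 1) (σ : Spec (CommRingCat.of k) ⟶ C)
    (hσ : σ ≫ (C ↘ Spec (CommRingCat.of k)) = 𝟙 (Spec (CommRingCat.of k)))
    (J : Over (Spec (CommRingCat.of k))) [GrpObj J] [Smooth J.hom] {ξ : Pic (PicF.XT (C ↘ Spec (CommRingCat.of k)) J)}
    (h : IsJac (C ↘ Spec (CommRingCat.of k)) σ hσ J ξ) : topologicalKrullDim J.left = (Curv2.genus k C : WithBot ℕ∞) := by
  have hgi : GeometricallyIrreducible (C ↘ Spec (CommRingCat.of k)) :=
    Fdesc.BaseField.geometricallyIrreducible_of_isAlgClosed _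
  refine S3239.result k C (C ↘ Spec (CommRingCat.of k)) hdim σ hσ rfl J
    (rigEquiv _ σ hσ J ⟨ξ, h.mem⟩) h.deg ?_
  intro T c hc
  obtain ⟨c', rfl⟩ := (rigEquiv _ σ hσ T).surjective c
  have key : ∀ g : T ⟶ J, PicF.pullCl (PicF.XTmap (C ↘ Spec (CommRingCat.of k)) g) (rigEquiv _ σ hσ J ⟨ξ, h.mem⟩).1 =
      (rigEquiv _ σ hσ T c').1 ↔ pull (PicF.XTmap (C ↘ Spec (CommRingCat.of k)) g) ξ = c'.1 := by
    intro g
    rw [rigEquiv_coe, rigEquiv_coe, ← toCl_pull, toCl_injective.eq_iff]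
  simp only [key]
  exact h.univ T c'.1 c'.2 hc

theorem aux {G : Type*} [CommGroup G] (c p q s : G) (m : ℕ) :
    c = (p⁻¹ * s)⁻¹ * ((q⁻¹ * s)⁻¹ * (c * s ^ 2 * (s ^ m)⁻¹ * p⁻¹ * q⁻¹ * s ^ m)) := by
  have key : ∀ {A : Type _} [AddCommGroup A] (c p q s t : A),
      c = -(-p + s) + (-(-q+s) + (c + (2:ℕ)•s + -t + -p + -q + t)) := by
    intros; abel
  exact key (A := Additive G) c p q s (Additive.ofMul (s ^ m))

section curve

variable {X : Scheme.{u}} [X.Over (Spec (CommRingCat.of k))] [IsIntegral X] [IsProper (X ↘ (Spec (CommRingCat.of k)))]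

/-- The rational point of a closed point. -/
noncomputable def kp (P : Pts X) : KPt k X := (pointEquivClosedPoint (X ↘ Spec (CommRingCat.of k))).symm P

theorem pnt_kp (P : Pts X) : pnt (kp (k := k) P) = P.1 :=
  congrArg Subtype.val ((pointEquivClosedPoint (X ↘ Spec (CommRingCat.of k))).apply_symm_apply P)

theorem ker_kp (hX : Reg X) (P : Pts X) : (kp (k := k) P).1.ker = I X P.1 P.2 := by
  have hC := hX.isCurve (k := k)
  have hcl : IsClosedImmersion (kp (k := k) P).1 := by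
    have : IsClosedImmersion ((kp (k := k) P).1 ≫ (X ↘ Spec (CommRingCat.of k))) := by
      rw [(kp (k := k) P).2]; infer_instance
    exact IsClosedImmersion.of_comp _ (X ↘ Spec (CommRingCat.of k))
  rw [Ega1.ReducedSub.ker_eq_vanishingIdeal (kp (k := k) P).1]
  have h1 : Set.range (kp (k := k) P).1 = {P.1} := by
    ext p
    rw [Set.mem_range, Set.mem_singleton_iff]
    constructor
    · rintro ⟨q, rfl⟩
      rw [apply_eq_pnt, pnt_kp]
    · rintro rfl
      exact ⟨_, pnt_kp P⟩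
  have h2 : (⟨{P.1}, P.2⟩ : TopologicalSpace.Closeds X) = ⟨closure (Set.range (kp (k := k) P).1), isClosed_closure⟩ := by
    apply SetLike.coe_injective
    change ({P.1} : Set X) = closure (Set.range (kp (k := k) P).1)
    rw [h1, P.2.closure_eq]
  exact congrArg Scheme.IdealSheafData.vanishingIdeal h2.symm

theorem pt_eq (hX : Reg X) (P : Pts X) : K319.PicCD.pt k X hX P = (pcl (hX.isCurve (k := k)) (kp P))⁻¹ := by
  rw [K319.PicCD.pt, pcl, Fga.JacFactor.dcl]
  congr 1
  rw [mk_eq_iff, ker_kp hX P]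
  exact ⟨Iso.refl _⟩

theorem exists_M (hX : Reg X) (hg : 2 ≤ (cd k X hX).g) : ∃ M : Additive (Pic X),
    (cd k X hX).deg M = (cd k X hX).g - 5 ∧
      ∀ P Q : Pts X, (cd k X hX).h (M + (cd k X hX).p P + (cd k X hX).p Q) = 0 := by
  have hC := hX.isCurve (k := k)
  have := hC.smooth
  obtain ⟨sg, -⟩ := exists_kpt hC ⊤ (Set.univ_nonempty)
  rcases Nat.eq_or_lt_of_le hg with h2 | h3
  · refine ⟨Additive.ofMul (pcl hC sg ^ 3), ?_, ?_⟩
    · change deg k X (pcl hC sg ^ 3) = _
      rw [deg_pow hC, deg_pcl, ← h2]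
      norm_num
    · intro P Q
      apply (cd k X hX).h_neg
      rw [map_add, map_add, (cd k X hX).deg_p, (cd k X hX).deg_p]
      change deg k X (pcl hC sg ^ 3) + 1 + 1 < 0
      rw [deg_pow hC, deg_pcl]
      norm_num
  · obtain ⟨m, hm⟩ := Nat.exists_eq_add_of_le h3
    have hgi : GeometricallyIrreducible (X ↘ Spec (CommRingCat.of k)) :=
      Fdesc.BaseField.geometricallyIrreducible_of_isAlgClosed _
    have hgc : GeometricallyConnected (X ↘ Spec (CommRingCat.of k)) :=
      Fdesc.GeomAlgClosed.geometricallyConnected_of_geometricallyIrreducible _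
    have hrd : SmoothOfRelativeDimension 1 (X ↘ Spec (CommRingCat.of k)) := Fga.JacAlg.smoothOfRelDim hC.curve
    obtain ⟨J, _, ξ, hp, hJs, hJgi, h⟩ := K533.JacSep.exists_jac (X ↘ Spec (CommRingCat.of k)) hX.dim sg.1 sg.2
    obtain ⟨j, hj⟩ := Abel.exists_abel h hC.curve
    have hj : IsAbel h j := hj
    have hdJ := dim_eq hX.dim sg.1 sg.2 J h
    have hlt : ((m + 1 + 1 : ℕ) : WithBot ℕ∞) < topologicalKrullDim J.left := by
      rw [hdJ]
      have : m + 1 + 1 < Curv2.genus k X := by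
        change (cd k X hX).g = _ at hm
        change m + 1 + 1 < (cd k X hX).g
        omega
      exact_mod_cast this
    obtain ⟨a, ha⟩ := K657.PowMap.exists_ne_prod hlt
      (Fin.cons (α := fun _ => (Over.mk (X ↘ Spec (CommRingCat.of k)) ⟶ J)) j⁻¹
        (Fin.cons (α := fun _ => (Over.mk (X ↘ Spec (CommRingCat.of k)) ⟶ J)) j⁻¹ (fun _ : Fin m => j)))
    have hdM : deg k X (kcl h a * pcl hC sg ^ 2 * (pcl hC sg)⁻¹ ^ m) = m - 2 := by
      rw [deg_mul hC, deg_mul hC, deg_kcl hC h, deg_pow hC, deg_pow hC, deg_inv hC, deg_pcl]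
      ring
    refine ⟨Additive.ofMul (kcl h a * pcl hC sg ^ 2 * (pcl hC sg)⁻¹ ^ m), ?_, ?_⟩
    · change deg k X (kcl h a * pcl hC sg ^ 2 * (pcl hC sg)⁻¹ ^ m) = _
      rw [hdM, hm]
      push_cast
      ring
    · intro P Q
      by_contra hne
      have hd : deg k X (kcl h a * pcl hC sg ^ 2 * (pcl hC sg)⁻¹ ^ m * K319.PicCD.pt k X hX P * K319.PicCD.pt k X hX Q) = m := by
        rw [deg_mul hC, deg_mul hC, hdM, deg_pt, deg_pt]
        ring
      obtain ⟨x, hx⟩ := (h0_pos_iff hC hd).1 (Nat.pos_of_ne_zero hne)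
      rw [pt_eq hX P, pt_eq hX Q] at hx
      refine ha (Fin.cons (α := fun _ => (𝟙_ (Over (Spec (CommRingCat.of k))) ⟶ Over.mk (X ↘ Spec (CommRingCat.of k))))
        (pm _ (kp (k := k) P).1 (kp P).2)
        (Fin.cons (α := fun _ => (𝟙_ (Over (Spec (CommRingCat.of k))) ⟶ Over.mk (X ↘ Spec (CommRingCat.of k))))
          (pm _ (kp (k := k) Q).1 (kp Q).2) (fun i => pm _ (x i).1 (x i).2))) ?_
      rw [List.ofFn_succ, List.ofFn_succ]
      simp only [Fin.cons_zero, Fin.cons_succ, List.prod_cons]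
      apply kcl_injective h
      rw [GrpObj.comp_inv, GrpObj.comp_inv, map_mul, map_mul, map_inv, map_inv, K532.Wr.kcl_prod hC h hj,
        K532.Wr.kcl_pm hC h hj, K532.Wr.kcl_pm hC h hj]
      have e1 : (∏ i, (pcl hC (x i))⁻¹) = kcl h a * pcl hC sg ^ 2 * (pcl hC sg)⁻¹ ^ m *
        (pcl hC (kp P))⁻¹ * (pcl hC (kp Q))⁻¹ := hx.symm
      rw [e1]
      have hsg : K532.Wr.sg sg.2 = sg := rfl
      rw [hsg]
      generalize pcl hC sg = s
      generalize pcl hC (kp P) = p
      generalize pcl hC (kp Q) = q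
      generalize kcl h a = c
      rw [inv_pow]
      exact aux c p q s m

end curve

end K657.NsJac
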