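import Groth.Agent.Curves.K318.PlaneCurve
import Groth.Agent.S1684
import Groth.Agent.CycA.IntLocal
import Groth.Agent.Dix.RegTwoDim
import Groth.Agent.Dix.ContractSurf
import Groth.Agent.Dix.Cast0
import Groth.Agent.Dix.IdealModCartier
import Groth.Agent.S1535
import Groth.Agent.S1697
import Groth.Agent.Sga5.ProjReg
import Groth.Agent.ProjDeg.K657.PnDim
import Groth.Agent.CohqA.ProjDim

/-!
# A plane curve of genus `≥ 2` has `h¹(O(1)) ≠ 0`
-/

set_option autoImplicit false
universe u

open CategoryTheory CategoryTheory.Limits AlgebraicGeometry Opposite TopologicalSpace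

open Groth.Agent

namespace K657.PlaneNs

open Groth.Agent.VarietyA.EulerLES K318.PlaneCurve

section Seq

variable {k : Type u} [Field k] (J : (CohB1.ProjSpace 2 k).IdealSheafData) {m : ℤ}
  (φ : ClSub.idealMod J ≅ Twist.twistProjSpace 2 k m)

include φ in
theorem tensor_ideal_iso (t : ℤ) :
    Nonempty (CohB1.tensorMod (Twist.twistProjSpace 2 k t) (ClSub.idealMod J) ≅ Twist.twistProjSpace 2 k (t + m)) := by
  have hc := Groth.Agent.Ega3B.ProjFrame.coveredByOne 2 k
  have h1 := Ega2.TwistInv.isIso_mulHom hc (rfl : t + m = t + m)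
  exact ⟨Ega2.Tens.mapTIso (Iso.refl _) φ ≪≫ @asIso _ _ _ _ (Ega2.TwistMul.mulHom (CohB1.polyGrading 2 k) rfl) h1⟩

/-- `ι_* O_J(t)`. -/
noncomputable abbrev push (t : ℤ) : (CohB1.ProjSpace 2 k).Modules :=
  (Scheme.Modules.pushforward J.subschemeι).obj
    ((Scheme.Modules.pullback J.subschemeι).obj (Twist.twistProjSpace 2 k t))

include φ in
theorem finrank_push_one {t : ℤ} (hm : -3 < t) :
    Module.finrank k (Coh.HH (CohB1.ProjSpace 2 k) (push J t) 1) =
      Module.finrank k (Coh.HH (CohB1.ProjSpace 2 k) (Twist.twistProjSpace 2 k (t + m)) 2) := by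
  obtain ⟨φ⟩ := tensor_ideal_iso J φ t
  have hS := Groth.Agent.VarietyB.RestrSeq.restrSeq_shortExact (hasBases (k := k) t) J
  have f1 := h1_twist k t
  have f2 := h2_twist_of_lt k hm
  have e2 := (equivA k φ 2).finrank_eq
  have hex1 := exactA₁ k _ hS 1 2 rfl
  have hex2 := exactA₂ k _ hS 1
  have hex3 := exactA₃ k _ hS 1 2 rfl
  rw [← e2]
  refine LinearEquiv.finrank_eq (LinearEquiv.ofBijective (deltaA k _ hS 1 2 rfl) ⟨?_, ?_⟩)
  · rw [injective_iff_map_eq_zero]
    intro x hx
    obtain ⟨y, hy⟩ := (hex3 x).1 hx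
    rw [← hy, show y = 0 from @Subsingleton.elim _ f1 _ _, map_zero]
  · intro y
    exact (hex1 y).1 (@Subsingleton.elim _ f2 _ _)

end Seq

section Curve

variable {k : Type u} [Field k] {X : Scheme.{u}} [X.Over (Spec (CommRingCat.of k))]
  (i : X ⟶ CohB1.ProjSpace 2 k) [IsClosedImmersion i]
  (hi : i ≫ CohB1.ProjSpace.toSpec 2 k = (X ↘ (Spec (CommRingCat.of k))))

include hi in
theorem finrank_one {m : ℤ} (φ : ClSub.idealMod i.ker ≅ Twist.twistProjSpace 2 k m) {t : ℤ} (ht : -3 < t) :
    Module.finrank k (Coh.HH X ((Scheme.Modules.pullback i).obj (Twist.twistProjSpace 2 k t)) 1) =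
      Module.finrank k (Coh.HH (CohB1.ProjSpace 2 k) (Twist.twistProjSpace 2 k (t + m)) 2) := by
  rw [← finrank_push_one i.ker φ ht]
  let Y := i.ker.subscheme
  let o : Y.Over (Spec (CommRingCat.of k)) := ⟨i.ker.subschemeι ≫ CohB1.ProjSpace.toSpec 2 k⟩
  let e : X ⟶ Y := i.toImage
  have he : e ≫ i.ker.subschemeι = i := i.toImage_imageι
  have h1 : e ≫ (Y ↘ Spec (CommRingCat.of k)) = X ↘ Spec (CommRingCat.of k) := by
    change e ≫ i.ker.subschemeι ≫ CohB1.ProjSpace.toSpec 2 k = _
    rw [← Category.assoc, he, hi]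
  let M : Y.Modules := (Scheme.Modules.pullback i.ker.subschemeι).obj (Twist.twistProjSpace 2 k t)
  have hM : Coh.IsQCoh M := Groth.Agent.Ega2.QCohLocal.isQCoh_of_isInvertible
    (Fdesc.LocGen.isInvertible_pullback _ (Groth.Agent.FormalB.TwistGen.isInvertible_twistProjSpace 2 k t))
  let ε : (Scheme.Modules.pullback i).obj (Twist.twistProjSpace 2 k t) ≅ (Scheme.Modules.pullback e).obj M :=
    (Scheme.Modules.pullbackCongr he.symm).app _ ≪≫
      ((Scheme.Modules.pullbackComp e i.ker.subschemeι).app (Twist.twistProjSpace 2 k t)).symm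
  rw [(equivA k ε 1).finrank_eq, Dix.Cast0.finrank_HH_iso k e h1 M hM 1]
  exact (Groth.Agent.CurvesC.CurveNum.hhPushₗ k i.ker.subschemeι rfl M 1).finrank_eq

theorem closure_eq [IrreducibleSpace X] : closure {i (genericPoint X)} = Set.range i := by
  have h1 := i.isClosedEmbedding.closure_image_eq {genericPoint X}
  rw [Set.image_singleton, genericPoint_closure, Set.image_univ] at h1
  exact h1

theorem dim_closure [IrreducibleSpace X] :
    topologicalKrullDim (closure {i (genericPoint X)} : Set (CohB1.ProjSpace 2 k)) = topologicalKrullDim X := by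
  rw [closure_eq]
  exact (IsHomeomorph.topologicalKrullDim_eq _ i.isClosedEmbedding.isEmbedding.toHomeomorph.isHomeomorph).symm

/-- The ideal of an integral curve in the plane is effective Cartier. -/
theorem isEff [IsIntegral X] (hdim : topologicalKrullDim X = 1) : BlowUp.IsEffCartierIdeal i.ker := by
  have hsm : Smooth (CohB1.ProjSpace.toSpec 2 k) := inferInstance
  have hP : IsIntegral (CohB1.ProjSpace 2 k) := inferInstance
  have hn : IsLocallyNoetherian (CohB1.ProjSpace 2 k) :=
    LocallyOfFiniteType.isLocallyNoetherian (CohB1.ProjSpace.toSpec 2 k)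
  let e : X ⟶ i.ker.subscheme := i.toImage
  have he : e ≫ i.ker.subschemeι = i := i.toImage_imageι
  have : Nonempty i.ker.subscheme := ⟨e (genericPoint X)⟩
  have hint : IsIntegral i.ker.subscheme := isIntegral_of_isOpenImmersion (inv e)
  have hgp : i.ker.subschemeι (genericPoint i.ker.subscheme) = i (genericPoint X) := by
    have h1 : e (genericPoint X) = genericPoint i.ker.subscheme := genericPoint_eq_of_isOpenImmersion e
    rw [← h1, ← Scheme.Hom.comp_apply, he]
  have hdP : topologicalKrullDim (CohB1.ProjSpace 2 k) = 2 := K657.PnDim.topologicalKrullDim_eq k 2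
  refine Groth.Agent.S1684.result _ i.ker ?_ ?_
  · rw [hgp]
    obtain ⟨a, t, n, h1, -, h3, h4, h5⟩ := CycA.IntLocal.exists_dims (CohB1.ProjSpace.toSpec 2 k) (i (genericPoint X))
    rw [dim_closure, hdim] at h3
    rw [hdP] at h4
    have ht : t = 1 := by exact_mod_cast h3.symm
    have hn : n = 2 := by exact_mod_cast h4.symm
    have ha : a = 1 := by omega
    rw [h1, ha]; rfl
  · intro x _
    have hsm' : Smooth (CohB1.ProjSpace 2 k ↘ Spec (CommRingCat.of k)) := hsm
    have h2 : IsRegularLocalRing ((CohB1.ProjSpace 2 k).presheaf.stalk x) := Groth.Agent.S1535.result k (CohB1.ProjSpace 2 k) x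
    have h3 : IsDomain ((CohB1.ProjSpace 2 k).presheaf.stalk x) := inferInstance
    refine ⟨h3, Dix.RegTwoDim.ufd ?_⟩
    refine le_trans ?_ hdP.le
    rw [Groth.Agent.Dix.ContractSurf.topologicalKrullDim_eq]
    exact le_iSup (fun x : CohB1.ProjSpace 2 k => ringKrullDim ((CohB1.ProjSpace 2 k).presheaf.stalk x)) x

include hi in
theorem false_of_plane [IsIntegral X] (hdim : topologicalKrullDim X = 1)
    (hg : 2 ≤ Curv2.genus k X)
    (hns : Subsingleton (Coh.HH X ((Scheme.Modules.pullback i).obj (Twist.twistProjSpace 2 k 1)) 1)) : False := by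
  have hinv := Dix.IdealModCartier.isInvertible_idealMod (isEff i hdim)
  obtain ⟨m, ⟨φ⟩⟩ := Groth.Agent.S1697.result k 2 _ hinv
  have h0 := finrank_one i hi φ (t := 0) (by norm_num)
  have h1 := finrank_one i hi φ (t := 1) (by norm_num)
  rw [Module.finrank_zero_of_subsingleton] at h1
  have h2 : Module.finrank k (Coh.HH X ((Scheme.Modules.pullback i).obj (Twist.twistProjSpace 2 k 0)) 1) =
      Curv2.genus k X := by
    obtain ⟨e⟩ := Ega2.TwistInv.nonempty_unit_iso (CohB1.polyGrading 2 k)
    exact (equivA k ((Scheme.Modules.pullback i).mapIso e.symm ≪≫ CurvesA.HHMap.pullbackUnit i) 1).finrank_eq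
  rw [h2, zero_add] at h0
  rcases lt_or_ge m (-3) with hm | hm
  · obtain ⟨n, hn⟩ := Int.le.dest (show m ≤ -4 by omega)
    have h3 := h2_twist k (m := 1 + m) n (by omega)
    rw [h3] at h1
    have := Nat.choose_pos (show 2 ≤ n + 2 by omega)
    omega
  · rcases eq_or_lt_of_le hm with hm | hm
    · have h3 := h2_twist k (m := m) 0 (by omega)
      rw [h3] at h0
      norm_num at h0
      omega
    · have h3 := h2_twist_of_lt k hm
      rw [Module.finrank_zero_of_subsingleton] at h0
      omega

end Curve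

end K657.PlaneNs
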