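import Groth.Agent.JacVar.K532.Wr
import Groth.Agent.Etdl.H426.FibDim
import Groth.Agent.CharCyc.K716.Td

/-!
# Maps from powers of a curve to a group: dimension

`smf ψ : C^r ⟶ J`, `(x_i) ↦ ∏ ψ_i(x_i)`. If `dim J > r` some rational point of `J` is not in the image.
-/

set_option autoImplicit false
universe u
open CategoryTheory CategoryTheory.Limits AlgebraicGeometry MonoidalCategory CartesianMonoidalCategory
open scoped MonObj

namespace K657.PowMap

open Groth.Agent K532.Wr K532.KPts

section dim

variable {k : Type u} [Field k] {X Y : Scheme.{u}}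

/-- The dimension does not increase under surjective morphisms. -/
theorem topologicalKrullDim_le_of_surjective (g : X ⟶ Y) (q : Y ⟶ Spec (CommRingCat.of k)) [LocallyOfFiniteType q]
    [LocallyOfFiniteType g] (hg : Function.Surjective g) (n : ℕ) (h : topologicalKrullDim X ≤ n) :
    topologicalKrullDim Y ≤ n := by
  rw [K716.Td.dim_le_iff (g ≫ q) n] at h
  rw [K716.Td.dim_le_iff q n]
  intro y
  obtain ⟨x, rfl⟩ := hg y
  have := h x
  rw [K716.Td.td_comp] at this
  omega

end dim

section sum

variable {k : Type u} [Field k] {C : Scheme.{u}} {f : C ⟶ Spec (CommRingCat.of k)}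
  {J : Over (Spec (CommRingCat.of k))} [GrpObj J]

theorem smooth_base [SmoothOfRelativeDimension 1 f] (n : ℕ) :
    SmoothOfRelativeDimension n (WidePullback.base (fun _ : Fin n => f)) := by
  induction n with
  | zero =>
    have := isIso_base_zero f
    infer_instance
  | succ n ih =>
    rw [← forgetLast_base]
    have hst := smoothOfRelativeDimension_isStableUnderBaseChange (n := 1)
    have h1 : SmoothOfRelativeDimension 1 (forgetLast f n) :=
      MorphismProperty.of_isPullback (P := @SmoothOfRelativeDimension 1) (isPullback_forgetLast f n) ‹_›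
    have h2 := smoothOfRelativeDimension_comp (n := 1) (m := n) (forgetLast f n)
      (WidePullback.base (fun _ : Fin n => f))
    have h3 : ∀ a b : ℕ, a = b → ∀ {Y Z : Scheme.{u}} (g : Y ⟶ Z), SmoothOfRelativeDimension a g →
        SmoothOfRelativeDimension b g := by
      rintro a _ rfl Y Z g hg
      exact hg
    exact h3 _ _ (Nat.add_comm 1 n) _ h2

theorem dim_pow_le [SmoothOfRelativeDimension 1 f] (n : ℕ) :
    topologicalKrullDim (widePullback (Spec (CommRingCat.of k)) (fun _ : Fin n => C) (fun _ => f) :) ≤ n := by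
  have := smooth_base (f := f) n
  exact Etdl.H426.FibDim.field_le (k := CommRingCat.of k) (Field.toIsField k) n
    (WidePullback.base (fun _ : Fin n => f))

/-- The map `(x_i) ↦ ∏ ψ_i(x_i)`. -/
noncomputable abbrev smf {r : ℕ} (ψ : Fin r → (Over.mk f ⟶ J)) :
    Over.mk (WidePullback.base fun (_ : Fin r) => f) ⟶ J :=
  (List.ofFn fun i : Fin r => pr f r i ≫ ψ i).prod

theorem comp_smf {T : Over (Spec (CommRingCat.of k))} {r : ℕ} (ψ : Fin r → (Over.mk f ⟶ J))
    (b : T ⟶ Over.mk (WidePullback.base fun (_ : Fin r) => f)) :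
    b ≫ smf ψ = (List.ofFn fun i : Fin r => (b ≫ pr f r i) ≫ ψ i).prod := by
  rw [smf, comp_ofFn_prod]
  simp only [Category.assoc]

theorem tup_smf {T : Over (Spec (CommRingCat.of k))} {r : ℕ} (ψ : Fin r → (Over.mk f ⟶ J))
    (x : Fin r → (T ⟶ Over.mk f)) :
    tup x ≫ smf ψ = (List.ofFn fun i : Fin r => x i ≫ ψ i).prod := by
  rw [comp_smf]
  simp only [tup_pr]

/-- Some rational point is not a product of values. -/
theorem exists_ne_prod [IsAlgClosed k] [IsProper f] [SmoothOfRelativeDimension 1 f] [IsProper J.hom] {r : ℕ}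
    (hdim : (r : WithBot ℕ∞) < topologicalKrullDim J.left) (ψ : Fin r → (Over.mk f ⟶ J)) :
    ∃ a : 𝟙_ (Over (Spec (CommRingCat.of k))) ⟶ J, ∀ x : Fin r → (𝟙_ (Over (Spec (CommRingCat.of k))) ⟶ Over.mk f),
      a ≠ (List.ofFn fun i => x i ≫ ψ i).prod := by
  by_contra hcon
  push Not at hcon
  have h1 : IsProper (Over.mk (WidePullback.base fun (_ : Fin r) => f)).hom := isProper_pow f r
  have h2 : IsProper ((smf ψ).left ≫ J.hom) := by rw [Over.w]; exact h1
  have h3 : IsProper (smf ψ).left := IsProper.of_comp (smf ψ).left J.hom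
  have h4 : IsClosed (Set.range (smf ψ).left) := (smf ψ).left.isClosedMap.isClosed_range
  have h5 : (Set.univ : Set J.left) ⊆ Set.range (smf ψ).left := by
    refine closed_subset isClosed_univ h4 fun a _ => ?_
    obtain ⟨x, hx⟩ := hcon a
    refine (mem_range_iff (smf ψ) a).2 ⟨tup x, ?_⟩
    rw [tup_smf, hx]
  have h6 := topologicalKrullDim_le_of_surjective (smf ψ).left J.hom (fun y => h5 (Set.mem_univ y)) r
    (dim_pow_le (f := f) r)
  exact absurd hdim (not_lt_of_ge h6)

end sum

end K657.PowMap
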